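import Mathlib.Analysis.Complex.Basic
import Mathlib.Tactic

/-!
# The arithmetic for the order of a group with involution centralizer `GL(2, 3)`
-/

set_option autoImplicit false

namespace CfsgLib.Characters.GL23

theorem cases_r {m : ℕ} {r : ℤ} (h : (m : ℤ) * (r - 2) ^ 2 = 96 * r * (r + 1)) (hr : r ≠ 0)
    (hr1 : r + 1 ≠ 0) :
    (m = 165 ∧ r = 10) ∨ (m = 117 ∧ r = 26) ∨ (m = 45 ∧ r = -6) ∨ (m = 77 ∧ r = -22) ∨ Even m := by
  by_cases hm : Even m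
  · exact Or.inr (Or.inr (Or.inr (Or.inr hm)))
  have hmo : Odd (m : ℤ) := by exact_mod_cast Nat.not_even_iff_odd.1 hm
  obtain ⟨d, rfl⟩ : ∃ d, r = d + 2 := ⟨r - 2, by ring⟩
  rw [add_sub_cancel_right] at h
  have half : ∀ x y : ℤ, (m : ℤ) * x ^ 2 = 2 * y → ∃ z, x = 2 * z := by
    intro x y hxy
    have hev : Even ((m : ℤ) * x ^ 2) := ⟨y, by rw [hxy]; ring⟩
    rcases Int.even_mul.1 hev with h' | h'
    · exact absurd h' (Int.not_even_iff_odd.2 hmo)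
    · obtain ⟨z, hz⟩ := (Int.even_pow.1 h').1
      exact ⟨z, by rw [hz]; ring⟩
  obtain ⟨d₁, rfl⟩ := half d (48 * (d + 2) * (d + 3)) (by rw [h]; ring)
  obtain ⟨d₂, rfl⟩ := half d₁ (24 * (d₁ + 1) * (2 * d₁ + 3)) (by linarith)
  obtain ⟨e, rfl⟩ := half d₂ (6 * (2 * d₂ + 1) * (4 * d₂ + 3)) (by linarith)
  have he : (m : ℤ) * e ^ 2 = 3 * (4 * e + 1) * (8 * e + 3) := by linarith
  have hdvd : e ∣ 9 := ⟨(m : ℤ) * e - 3 * (32 * e + 20), by linear_combination -he⟩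
  have hub : e ≤ 9 := Int.le_of_dvd (by norm_num) hdvd
  have hlb : -9 ≤ e := by
    have := Int.le_of_dvd (by norm_num) (neg_dvd.2 hdvd)
    omega
  interval_cases e
  all_goals norm_num at he
  all_goals omega

theorem order_cases {m : ℕ} (hm : Odd m) {r s : ℤ} (hr : r ≠ 0) (hr1 : -1 - r ≠ 0) (hs : s ≠ 0)
    (ht : -r - s ≠ 0)
    (h4 : (m : ℂ) * (1 + 9 / ((-1 - r : ℤ) : ℂ) + 8 / r + 1 / s + 9 / ((-r - s : ℤ) : ℂ)) = 192)
    (h6 : (m : ℂ) * (1 + 4 / r + 1 / s - 16 / ((s + 1 + r : ℤ) : ℂ)) = 288)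
    (h8 : 1 + 9 / ((-1 - r : ℤ) : ℂ) - 1 / s - 9 / ((-r - s : ℤ) : ℂ) = 0) :
    48 * m = 5616 ∨ 48 * m = 7920 := by
  set p : ℤ := -1 - r with hp
  set t : ℤ := -r - s with ht'
  have hr0 : (r : ℂ) ≠ 0 := Int.cast_ne_zero.2 hr
  have hp0 : (p : ℂ) ≠ 0 := Int.cast_ne_zero.2 hr1
  have hs0 : (s : ℂ) ≠ 0 := Int.cast_ne_zero.2 hs
  have ht0 : (t : ℂ) ≠ 0 := Int.cast_ne_zero.2 ht
  have hmain : (m : ℂ) * (2 * r * p + 18 * r + 8 * p) = 192 * (r * p) := by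
    have : (m : ℂ) * (2 + 18 / p + 8 / r) = 192 := by linear_combination h4 + (m : ℂ) * h8
    rw [← this]
    field_simp
  have hmain' : (m : ℤ) * (2 * r * p + 18 * r + 8 * p) = 192 * (r * p) := by exact_mod_cast hmain
  have hq : ((p + 9) * s * t - p * t - 9 * p * s : ℂ) = 0 := by
    have : ((p + 9) * s * t - p * t - 9 * p * s : ℂ) =
        (1 + 9 / (p : ℂ) - 1 / s - 9 / (t : ℂ)) * (p * s * t) := by
      field_simp
    rw [this, h8, zero_mul]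
  have hq' : (p + 9) * s * t - p * t - 9 * p * s = 0 := by exact_mod_cast hq
  rw [hp, ht'] at hq'
  rw [hp] at hmain'
  rcases cases_r (m := m) (r := r) (by linarith) hr (by omega) with
    ⟨rfl, -⟩ | ⟨rfl, -⟩ | ⟨rfl, rfl⟩ | ⟨rfl, rfl⟩ | h
  · exact Or.inr rfl
  · exact Or.inl rfl
  · exfalso
    have hf : (s - 1) * (7 * s - 15) = 0 := by linarith
    rcases mul_eq_zero.1 hf with h | h
    · obtain rfl : s = 1 := by omega
      norm_num at h6
    · omega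
  · exfalso
    have hf : (s - 1) * (5 * s - 77) = 0 := by linarith
    rcases mul_eq_zero.1 hf with h | h
    · obtain rfl : s = 1 := by omega
      norm_num at h6
    · omega
  · exact absurd h (Nat.not_even_iff_odd.2 hm)

end CfsgLib.Characters.GL23
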