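import Cfsg.Agent.Characters.GL23.Group
import Cfsg.Agent.Characters.Generalized
import Cfsg.Agent.Characters.Induction
import Cfsg.Agent.Characters.Linear
import Mathlib.Analysis.Real.Sqrt

/-!
# Five generalized characters of an involution centralizer `GL(2, 3)` and the induced ones
-/

set_option autoImplicit false
set_option linter.style.haveILetI false
set_option linter.unusedSectionVars false

namespace CfsgLib.Characters.GL23

open scoped ComplexConjugate
open Matrix

/-- A square root of `-2`. -/
noncomputable def sqrtNegTwo : ℂ := (Real.sqrt 2 : ℂ) * Complex.I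

theorem sqrtNegTwo_sq : sqrtNegTwo * sqrtNegTwo = ((-2 : ℤ) : ℂ) := by
  rw [sqrtNegTwo, mul_mul_mul_comm, Complex.I_mul_I, ← Complex.ofReal_mul,
    Real.mul_self_sqrt (by norm_num)]
  norm_num

/-- The embedding of the coefficient ring. -/
noncomputable def emb : R2 →+* ℂ := Zsqrtd.lift ⟨sqrtNegTwo, sqrtNegTwo_sq⟩

theorem emb_mk (a b : ℤ) : emb ⟨a, b⟩ = (a : ℂ) + (b : ℂ) * sqrtNegTwo := rfl

theorem conj_emb (z : R2) : conj (emb z) = emb (star z) := by
  obtain ⟨a, b⟩ := z
  simp [emb_mk, sqrtNegTwo]

universe u

variable {G : Type u} [Group G] {t : G}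
  (e : Subgroup.centralizer ({t} : Set G) ≃* GeneralLinearGroup (Fin 2) (ZMod 3))

/-- The image of `rep` as a complex matrix. -/
noncomputable def repMat (v : M3) : Matrix (Fin 2) (Fin 2) ℂ :=
  !![emb (rep v).1, emb (rep v).2.1; emb (rep v).2.2.1, emb (rep v).2.2.2]

/-- The faithful representation of degree two of the centralizer. -/
noncomputable def repC :
    Representation ℂ (Subgroup.centralizer ({t} : Set G)) (Fin 2 → ℂ) where
  toFun x := Matrix.toLinAlgEquiv' (repMat (coord e x))
  map_one' := by
    rw [coord_one, repMat, rep_one]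
    simp [← Matrix.one_fin_two]
  map_mul' x y := by
    rw [coord_mul, ← map_mul]
    congr 1
    rw [repMat, rep_mul _ (coord_mem e x) _ (coord_mem e y)]
    simp [repMat, mulR]

theorem character_repC (x : Subgroup.centralizer ({t} : Set G)) :
    (repC e).character x = emb (psi (coord e x)) := by
  show LinearMap.trace ℂ _ (Matrix.toLin' (repMat (coord e x))) = _
  rw [Matrix.trace_toLin'_eq, Matrix.trace_fin_two]
  simp [repMat, psi]

theorem isGen_psi :
    Cfsg.IsGeneralizedCharacter _ (fun x => emb (psi (coord e x))) := by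
  rw [← funext (character_repC e)]
  exact isGen_of_isCharacter (isCharacter_character _)

/-- The sign character as a homomorphism. -/
noncomputable def sgnHom : Subgroup.centralizer ({t} : Set G) →* ℂˣ where
  toFun x := ⟨emb (sgn (coord e x)), emb (sgn (coord e x)),
    by rw [← map_mul, sgn_mul_self, map_one], by rw [← map_mul, sgn_mul_self, map_one]⟩
  map_one' := by ext; simp [coord_one, sgn_one]
  map_mul' x y := by
    ext
    simp [coord_mul, sgn_mul _ (coord_mem e x) _ (coord_mem e y)]

theorem isGen_sgn [Finite G] :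
    Cfsg.IsGeneralizedCharacter _ (fun x => emb (sgn (coord e x))) := by
  haveI := Fintype.ofFinite G
  haveI := Fintype.ofFinite (Subgroup.centralizer ({t} : Set G))
  exact isGen_of_isIrr (isIrr_linChar (sgnHom e))

/-- The five generalized characters of the centralizer. -/
noncomputable def baseC (i : Fin 5) : Subgroup.centralizer ({t} : Set G) → ℂ :=
  fun x => emb (base i (coord e x))

theorem isGen_baseC [Finite G] (i : Fin 5) : Cfsg.IsGeneralizedCharacter _ (baseC e i) := by
  haveI := Fintype.ofFinite G
  haveI := Fintype.ofFinite (Subgroup.centralizer ({t} : Set G))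
  have hψ := isGen_psi e
  have hσ := isGen_sgn e
  have hψ' : Cfsg.IsGeneralizedCharacter _ (fun x => emb (star (psi (coord e x)))) := by
    simp only [← conj_emb]
    exact isGen_conj hψ
  have h1 : Cfsg.IsGeneralizedCharacter (Subgroup.centralizer ({t} : Set G)) (fun _ => 1) :=
    isGen_one
  have h3 : Cfsg.IsGeneralizedCharacter _ (fun x => emb (chi3 (coord e x))) := by
    simp only [chi3, map_sub, map_mul]
    exact isGen_sub (isGen_mul hψ hψ) hσ
  have h3' : Cfsg.IsGeneralizedCharacter _ (fun x => emb (chi3' (coord e x))) := by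
    simp only [chi3', map_sub, map_mul, map_one]
    exact isGen_sub (isGen_mul hψ hψ') h1
  have h2 : Cfsg.IsGeneralizedCharacter _ (fun x => emb (chi2 (coord e x))) := by
    simp only [chi2, map_sub, map_mul, map_one]
    exact isGen_sub (isGen_sub (isGen_sub (isGen_mul h3 h3) h1) h3) h3'
  fin_cases i
  all_goals
    unfold baseC
    simp [base]
  · exact isGen_sub (isGen_add h1 h2) h3
  · exact isGen_sub (isGen_add hσ h2) h3'
  · exact isGen_sub (isGen_add hψ h1) h3
  · exact isGen_sub (isGen_add hψ' h1) h3
  · exact isGen_sub (isGen_sub (isGen_mul hψ h2) h3) hσ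

theorem baseC_eq_zero [Finite G] (ht : orderOf t = 2) (i : Fin 5)
    {x : Subgroup.centralizer ({t} : Set G)} (hx : (x : G) ∉ roots t) : baseC e i x = 0 := by
  rw [baseC, base_eq_zero i _ (coord_mem e x) (mt (mem_zpowers_iff_inD e ht x).2 hx), map_zero]

theorem sum_coord [Fintype (Subgroup.centralizer ({t} : Set G))] {M : Type*} [AddCommMonoid M]
    (F : M3 → M) : ∑ x, F (coord e x) = ∑ v ∈ elts, F v :=
  Finset.sum_bij (fun x _ => coord e x) (fun x _ => coord_mem e x)
    (fun _ _ _ _ h => coord_injective e h)
    (fun v hv => by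
      obtain ⟨x, hx⟩ := coord_surj e hv
      exact ⟨x, Finset.mem_univ x, hx⟩)
    (fun _ _ => rfl)

variable [Fintype G]

/-- The induced generalized characters. -/
noncomputable def X (i : Fin 5) : G → ℂ :=
  Cfsg.indFun (Subgroup.centralizer ({t} : Set G)) (baseC e i)

theorem isGen_X (i : Fin 5) : Cfsg.IsGeneralizedCharacter G (X e i) :=
  isGen_indFun _ (isGen_baseC e i)

theorem X_one (i : Fin 5) : X e i 1 = 0 := by
  rw [X, indFun_one, baseC, coord_one, base_one, map_zero, mul_zero]

theorem X_roots (ht : orderOf t = 2) (i : Fin 5) (x : Subgroup.centralizer ({t} : Set G))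
    (hx : (x : G) ∈ roots t) : X e i x = baseC e i x := by
  classical
  have hterm : ∀ g : G, Cfsg.extendByZero (Subgroup.centralizer ({t} : Set G)) (baseC e i)
      (g⁻¹ * x * g) = if g ∈ Subgroup.centralizer ({t} : Set G) then baseC e i x else 0 := by
    intro g
    split_ifs with hg
    · rw [extendByZero_of_mem _ _ (mul_mem (mul_mem (inv_mem hg) x.2) hg)]
      have h := isClassFunction_of_isGen (isGen_baseC e i) x
        (⟨g, hg⟩⁻¹ : Subgroup.centralizer ({t} : Set G))
      rw [inv_inv] at h
      exact h
    · by_cases hm : g⁻¹ * x * g ∈ Subgroup.centralizer ({t} : Set G)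
      · rw [extendByZero_of_mem _ _ hm]
        refine baseC_eq_zero e ht i ?_
        simpa using roots_ti ht (fun h => hg (by simpa using inv_mem h) :
          g⁻¹ ∉ Subgroup.centralizer ({t} : Set G)) hx
      · exact extendByZero_of_not_mem _ _ hm
  simp only [X, Cfsg.indFun, hterm]
  rw [← Finset.sum_filter, Finset.sum_const, nsmul_eq_mul, ← Fintype.card_subtype,
    ← Nat.card_eq_fintype_card, ← mul_assoc,
    inv_mul_cancel₀ (subgroup_card_ne_zero _), one_mul]

theorem classInner_X_eq {χ : G → ℂ} (hχ : Cfsg.IsClassFunction G χ) (i : Fin 5)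
    [Fintype (Subgroup.centralizer ({t} : Set G))] :
    Cfsg.classInner (X e i) χ =
      (48 : ℂ)⁻¹ * ∑ x, baseC e i x * conj (χ (x : Subgroup.centralizer ({t} : Set G))) := by
  rw [X, classInner_indFun _ _ hχ, Cfsg.classInner, card_centralizer e]
  norm_num

theorem gram_X (ht : orderOf t = 2) (i j : Fin 5) :
    Cfsg.classInner (X e i) (X e j) = emb (![![3, 1, 2, 2, 1], ![1, 3, 0, 0, -1], ![2, 0, 3, 2, 1],
      ![2, 0, 2, 3, 1], ![1, -1, 1, 1, 3]] i j) := by
  classical
  haveI := Fintype.ofFinite (Subgroup.centralizer ({t} : Set G))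
  rw [classInner_X_eq e (isClassFunction_of_isGen (isGen_X e j))]
  have : ∀ x : Subgroup.centralizer ({t} : Set G), baseC e i x * conj (X e j x) =
      emb (base i (coord e x) * star (base j (coord e x))) := by
    intro x
    by_cases hx : (x : G) ∈ roots t
    · rw [X_roots e ht j x hx, map_mul, ← conj_emb]; rfl
    · rw [baseC_eq_zero e ht i hx, zero_mul, map_mul]
      have := baseC_eq_zero e ht i hx
      rw [baseC] at this
      rw [this, zero_mul]
  rw [Finset.sum_congr rfl fun x _ => this x,
    sum_coord e (fun v => emb (base i v * star (base j v))), ← map_sum, gram, map_mul,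
    map_ofNat, ← mul_assoc, inv_mul_cancel₀ (by norm_num), one_mul]

theorem classInner_X_one (i : Fin 5) :
    Cfsg.classInner (X e i) (fun _ => 1) = emb (![1, 0, 1, 1, 0] i) := by
  classical
  haveI := Fintype.ofFinite (Subgroup.centralizer ({t} : Set G))
  rw [classInner_X_eq e (fun _ _ => rfl)]
  simp only [map_one, mul_one, baseC]
  rw [sum_coord e (fun v => emb (base i v)), ← map_sum, sum_base, map_mul,
    map_ofNat, ← mul_assoc, inv_mul_cancel₀ (by norm_num), one_mul]

theorem conj_X : (fun g => conj (X e 2 g)) = X e 3 := by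
  funext g
  simp only [X, Cfsg.indFun, map_mul, map_inv₀, Complex.conj_natCast, map_sum]
  congr 1
  refine Finset.sum_congr rfl fun x _ => ?_
  by_cases hx : x⁻¹ * g * x ∈ Subgroup.centralizer ({t} : Set G)
  · rw [extendByZero_of_mem _ _ hx, extendByZero_of_mem _ _ hx, baseC, baseC, conj_emb,
      star_base_two _ (coord_mem e _)]
  · rw [extendByZero_of_not_mem _ _ hx, extendByZero_of_not_mem _ _ hx, map_zero]

theorem classInner_X (ht : orderOf t = 2) (i : Fin 5) {χ : G → ℂ}
    (hχ : Cfsg.IsClassFunction G χ) (r : Fin 5 → Subgroup.centralizer ({t} : Set G))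
    (hr : ∀ j, coord e (r j) = classRep j) :
    48 * Cfsg.classInner (X e i) χ = ∑ j : Fin 5,
      emb (![1, 6, 8, 6, 6] j * base i (classRep j)) * conj (χ (r j)) := by
  classical
  haveI := Fintype.ofFinite (Subgroup.centralizer ({t} : Set G))
  have : ∀ x : Subgroup.centralizer ({t} : Set G), baseC e i x * conj (χ x) =
      ∑ j : Fin 5, (if inD (coord e x) ∧ cls (coord e x) = j then emb (base i (coord e x)) else 0) *
        conj (χ (r j)) := by
    intro x
    by_cases hD : inD (coord e x)
    · rw [Fintype.sum_eq_single (cls (coord e x)) (fun j hj => by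
        rw [if_neg fun h => hj h.2.symm, zero_mul]), if_pos ⟨hD, rfl⟩]
      obtain ⟨g, hg, hgx⟩ := cls_spec _ (coord_mem e x) hD
      rw [classFunction_isConj hχ (conj_of_coord e hg (y := r (cls (coord e x)))
        (by rw [hr]; exact hgx))]
      rfl
    · rw [baseC_eq_zero e ht i (mt (mem_zpowers_iff_inD e ht x).1 hD), zero_mul,
        Finset.sum_eq_zero fun j _ => by rw [if_neg fun h => hD h.1, zero_mul]]
  rw [classInner_X_eq e hχ, ← mul_assoc, mul_inv_cancel₀ (by norm_num), one_mul,
    Finset.sum_congr rfl fun x _ => this x, Finset.sum_comm]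
  refine Finset.sum_congr rfl fun j _ => ?_
  rw [← Finset.sum_mul,
    sum_coord e (fun v => if inD v ∧ cls v = j then emb (base i v) else 0),
    ← Finset.sum_filter, ← map_sum, class_sum]

end CfsgLib.Characters.GL23
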