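import Cfsg.Agent.Characters.Commutators
import Cfsg.Agent.Small.Dihedral

/-!
# Counting factorizations as products of two involutions
-/

set_option autoImplicit false
set_option linter.style.haveILetI false
set_option linter.unusedSectionVars false

namespace CfsgLib.Characters

open scoped ComplexConjugate

universe u

variable {G : Type u} [Group G] [Fintype G]

/-- The number of ways of writing an element as a product of two conjugates of an involution,
each conjugate counted once for each conjugating element. -/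
theorem card_conj_mul_conj {t : G} (ht : t⁻¹ = t) (g : G) :
    (Nat.card {p : G × G // p.1 * t * p.1⁻¹ * (p.2 * t * p.2⁻¹) = g} : ℂ) =
      (Nat.card G : ℂ) * ∑ χ : Cfsg.IrrCharacter G,
        (χ : G → ℂ) t * (χ : G → ℂ) t * (χ : G → ℂ) g / (χ : G → ℂ) 1 := by
  classical
  set δ : G → ℂ := fun y =>
    ∑ p : G × G, if p.1 * t * p.1⁻¹ * (p.2 * t * p.2⁻¹) = y then 1 else 0 with hδ
  have hcl : Cfsg.IsClassFunction G δ := by
    intro y c
    simp only [hδ]
    refine Fintype.sum_equiv ((Equiv.mulLeft c⁻¹).prodCongr (Equiv.mulLeft c⁻¹)) _ _ fun p => ?_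
    simp only [Equiv.prodCongr_apply, Prod.map, Equiv.coe_mulLeft]
    refine if_congr ⟨fun h => ?_, fun h => ?_⟩ rfl rfl
    · calc _ = c⁻¹ * (p.1 * t * p.1⁻¹ * (p.2 * t * p.2⁻¹)) * c := by group
        _ = y := by rw [h]; group
    · calc _ = c * (c⁻¹ * p.1 * t * (c⁻¹ * p.1)⁻¹ * (c⁻¹ * p.2 * t * (c⁻¹ * p.2)⁻¹)) * c⁻¹ := by
            group
        _ = c * y * c⁻¹ := by rw [h]
  have hreal : ∀ χ : Cfsg.IrrCharacter G, conj ((χ : G → ℂ) t) = (χ : G → ℂ) t := fun χ => by
    rw [← character_inv (isCharacter_of_isIrr χ.2), ht]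
  have hinner : ∀ χ : Cfsg.IrrCharacter G,
      Cfsg.classInner δ (χ : G → ℂ) =
        (Nat.card G : ℂ) * ((χ : G → ℂ) t * (χ : G → ℂ) t) / (χ : G → ℂ) 1 := by
    intro χ
    simp only [hδ, Cfsg.classInner, Finset.sum_mul]
    rw [Finset.sum_comm]
    simp only [ite_mul, one_mul, zero_mul, Finset.sum_ite_eq, Finset.mem_univ, if_true]
    rw [← map_sum, Fintype.sum_prod_type]
    have key : ∀ a : G, ∑ b : G, (χ : G → ℂ) (a * t * a⁻¹ * (b * t * b⁻¹)) =
        (Nat.card G : ℂ) * ((χ : G → ℂ) t * (χ : G → ℂ) t) / (χ : G → ℂ) 1 := fun a => by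
      have h := sum_char_commutator χ.2 t
      rw [ht] at h
      rw [← h]
      refine Fintype.sum_bijective (a⁻¹ * ·) (Group.mulLeft_bijective a⁻¹) _ _ fun b => ?_
      rw [← (isClassFunction_of_isIrr χ.2) (t * (a⁻¹ * b * t * (a⁻¹ * b)⁻¹)) a]
      group
    rw [Finset.sum_congr rfl fun a _ => key a, Finset.sum_const, Finset.card_univ, nsmul_eq_mul,
      ← Nat.card_eq_fintype_card]
    obtain ⟨d, -, hd⟩ := exists_degree_pos χ.2
    simp only [map_mul, map_div₀, hreal, Complex.conj_natCast, hd]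
    rw [← mul_assoc, inv_mul_cancel₀ natCard_ne_zero, one_mul]
  have hδg : δ g = (Nat.card {p : G × G // p.1 * t * p.1⁻¹ * (p.2 * t * p.2⁻¹) = g} : ℂ) := by
    simp only [hδ]
    rw [Finset.sum_boole, Nat.card_eq_fintype_card, Fintype.card_subtype]
  rw [← hδg, congrFun (classFunction_expansion hcl) g, Finset.sum_apply, Finset.mul_sum]
  refine Finset.sum_congr rfl fun χ _ => ?_
  rw [Pi.smul_apply, smul_eq_mul, hinner χ]
  ring

/-- If all involutions are conjugate, the factorizations in `card_conj_mul_conj` count the pairs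
of involutions, each `|C(t)| ^ 2` times. -/
theorem card_conj_mul_conj_eq {t : G} (ht : orderOf t = 2)
    (hall : ∀ y : G, orderOf y = 2 → IsConj t y) (g : G) :
    Nat.card {p : G × G // p.1 * t * p.1⁻¹ * (p.2 * t * p.2⁻¹) = g} =
      Nat.card (Subgroup.centralizer ({t} : Set G)) ^ 2 *
        Nat.card {a : G // orderOf a = 2 ∧ orderOf (a * g) = 2} := by
  classical
  have hord : ∀ a : G, orderOf (a * t * a⁻¹) = 2 := fun a => by
    simpa using (MulAut.conj a).orderOf_eq t |>.trans ht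
  have hfib : ∀ y : G, orderOf y = 2 → Nat.card {b : G // b * t * b⁻¹ = y} =
      Nat.card (Subgroup.centralizer ({t} : Set G)) := by
    intro y hy
    obtain ⟨c, rfl⟩ := isConj_iff.1 (hall y hy)
    refine Nat.card_congr ((Equiv.mulLeft c⁻¹).subtypeEquiv fun b => ?_)
    rw [Subgroup.mem_centralizer_singleton_iff, Equiv.coe_mulLeft]
    refine ⟨fun h => ?_, fun h => ?_⟩
    · calc c⁻¹ * b * t = c⁻¹ * (b * t * b⁻¹) * b := by group
        _ = t * (c⁻¹ * b) := by rw [h]; group
    · calc b * t * b⁻¹ = c * (c⁻¹ * b * t) * b⁻¹ := by group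
        _ = c * t * c⁻¹ := by rw [h]; group
  let e₁ : {p : G × G // p.1 * t * p.1⁻¹ * (p.2 * t * p.2⁻¹) = g} ≃
      Σ a : {a : G // orderOf a = 2 ∧ orderOf (a * g) = 2},
        {b : G // b * t * b⁻¹ = a.1} × {b : G // b * t * b⁻¹ = a.1 * g} :=
    { toFun := fun p => ⟨⟨p.1.1 * t * p.1.1⁻¹, hord _, by
          rw [show p.1.1 * t * p.1.1⁻¹ * g = p.1.2 * t * p.1.2⁻¹ by
            conv_lhs => arg 2; rw [← p.2]
            rw [← mul_assoc, Small.mul_self_of_orderOf_two (hord _), one_mul]]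
          exact hord _⟩, ⟨p.1.1, rfl⟩, ⟨p.1.2, by
            conv_rhs => arg 2; rw [← p.2]
            rw [← mul_assoc, Small.mul_self_of_orderOf_two (hord _), one_mul]⟩⟩
      invFun := fun s => ⟨(s.2.1.1, s.2.2.1), by
        rw [s.2.1.2, s.2.2.2, ← mul_assoc, Small.mul_self_of_orderOf_two s.1.2.1, one_mul]⟩
      left_inv := fun p => rfl
      right_inv := by
        rintro ⟨⟨a, ha⟩, ⟨b, hb⟩, ⟨b', hb'⟩⟩
        obtain rfl : b * t * b⁻¹ = a := hb
        rfl }
  rw [Nat.card_congr e₁, Nat.card_sigma,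
    Finset.sum_congr rfl fun a _ => by rw [Nat.card_prod, hfib _ a.2.1, hfib _ a.2.2],
    Finset.sum_const, Finset.card_univ, smul_eq_mul, ← Nat.card_eq_fintype_card]
  ring

end CfsgLib.Characters
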