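import Cfsg.Agent.Characters.Generalized
import Cfsg.Agent.Characters.FixedPoints
import Mathlib.Tactic

/-!
# Decomposition of five generalized characters with the Gram matrix of `GL(2, 3)`
-/

set_option autoImplicit false
set_option linter.style.haveILetI false
set_option linter.unusedSectionVars false

namespace CfsgLib.Characters.GL23

open scoped ComplexConjugate

universe u

variable {G : Type u} [Group G] [Fintype G]

/-- A generalized character of norm one. -/
def IsUnitChar (Z : G → ℂ) : Prop :=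
  Cfsg.IsGeneralizedCharacter G Z ∧ Cfsg.classInner Z Z = 1

theorem isUnitChar_one : IsUnitChar (fun _ : G => (1 : ℂ)) :=
  ⟨isGen_one, classInner_isIrr_self isIrr_one⟩

theorem IsUnitChar.exists_irr {Z : G → ℂ} (h : IsUnitChar Z) :
    ∃ χ : Cfsg.IrrCharacter G, ∃ ε : ℂ, (ε = 1 ∨ ε = -1) ∧ Z = ε • (χ : G → ℂ) := by
  rcases gen_norm_one h.1 h.2 with h' | h'
  · exact ⟨⟨Z, h'⟩, 1, Or.inl rfl, by simp⟩
  · exact ⟨⟨-Z, h'⟩, -1, Or.inr rfl, by simp⟩

theorem unit_inner {X Y : G → ℂ} (hX : IsUnitChar X) (hY : IsUnitChar Y) :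
    Cfsg.classInner X Y = 0 ∨ (X = Y ∧ Cfsg.classInner X Y = 1) ∨
      (X = -Y ∧ Cfsg.classInner X Y = -1) := by
  classical
  obtain ⟨χ, ε, hε, rfl⟩ := hX.exists_irr
  obtain ⟨ψ, δ, hδ, rfl⟩ := hY.exists_irr
  rw [classInner_smul_left, classInner_smul_right, classInner_irr]
  by_cases h : χ = ψ
  · subst h
    rcases hε with rfl | rfl <;> rcases hδ with rfl | rfl <;> simp
  · simp [h]

theorem eq_of_inner_eq_one {X Y : G → ℂ} (hX : IsUnitChar X) (hY : IsUnitChar Y)
    (h : Cfsg.classInner X Y = 1) : X = Y := by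
  rcases unit_inner hX hY with h' | h' | h'
  · rw [h'] at h; norm_num at h
  · exact h'.1
  · rw [h'.2] at h; norm_num at h

theorem neg_left (φ ψ : G → ℂ) : Cfsg.classInner (-φ) ψ = -Cfsg.classInner φ ψ := by
  rw [← zero_sub φ, classInner_sub_left, classInner_zero_left, zero_sub]

theorem inner_zero_symm {φ ψ : G → ℂ} (h : Cfsg.classInner φ ψ = 0) :
    Cfsg.classInner ψ φ = 0 := by rw [classInner_conj_symm, h, map_zero]

theorem neg_right (φ ψ : G → ℂ) : Cfsg.classInner φ (-ψ) = -Cfsg.classInner φ ψ := by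
  rw [← zero_sub ψ, classInner_sub_right, classInner_zero_right, zero_sub]

theorem perp_of_sum {X Y Z : G → ℂ} (hX : IsUnitChar X) (hY : IsUnitChar Y) (hZ : IsUnitChar Z)
    (hXY : Cfsg.classInner X Y = 0) (h : Cfsg.classInner (X + Y) Z = 0) :
    Cfsg.classInner X Z = 0 ∧ Cfsg.classInner Y Z = 0 := by
  rw [classInner_add_left] at h
  suffices hXZ : Cfsg.classInner X Z = 0 from ⟨hXZ, by rwa [hXZ, zero_add] at h⟩
  have hYX : Cfsg.classInner Y X = 0 := by rw [classInner_conj_symm, hXY, map_zero]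
  rcases unit_inner hX hZ with h' | ⟨e, h'⟩ | ⟨e, h'⟩
  · exact h'
  · exfalso; subst e; rw [h', hYX] at h; norm_num at h
  · exfalso
    have : Z = -X := by rw [e, neg_neg]
    rw [h', this, neg_right, hYX] at h
    norm_num at h

theorem gen_norm_nonneg {θ : G → ℂ} (h : Cfsg.IsGeneralizedCharacter G θ) {N : ℤ}
    (hN : Cfsg.classInner θ θ = (N : ℂ)) : 0 ≤ N ∧ (N = 0 → θ = 0) := by
  obtain ⟨m, hm, hmi⟩ := exists_int_coeff h
  have hsq : ∑ χ, m χ ^ 2 = N := by
    have := (classInner_self_eq_sum_sq (isClassFunction_of_isGen h) m hmi).symm.trans hN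
    exact_mod_cast this
  refine ⟨hsq ▸ Finset.sum_nonneg fun _ _ => sq_nonneg _, fun h0 => ?_⟩
  rw [hm]
  refine Finset.sum_eq_zero fun χ hχ => ?_
  have := (Finset.sum_eq_zero_iff_of_nonneg fun χ _ => sq_nonneg (m χ)).1 (hsq.trans h0) χ hχ
  simp [pow_eq_zero_iff (n := 2) two_ne_zero |>.1 this]

theorem split_two {θ : G → ℂ} (h : Cfsg.IsGeneralizedCharacter G θ)
    (h2 : Cfsg.classInner θ θ = 2) :
    ∃ X Y : G → ℂ, IsUnitChar X ∧ IsUnitChar Y ∧ Cfsg.classInner X Y = 0 ∧ θ = X + Y := by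
  classical
  obtain ⟨m, -, hmi⟩ := exists_int_coeff h
  have hsq : ∑ χ, m χ ^ 2 = 2 := by
    have := (classInner_self_eq_sum_sq (isClassFunction_of_isGen h) m hmi).symm.trans h2
    exact_mod_cast this
  obtain ⟨χ, -, hχ⟩ := Finset.exists_ne_zero_of_sum_ne_zero (hsq.trans_ne two_ne_zero)
  have hb : m χ ^ 2 ≤ 2 := hsq ▸ Finset.single_le_sum (f := fun χ => m χ ^ 2)
    (fun _ _ => sq_nonneg _) (Finset.mem_univ χ)
  have hm : m χ = -1 ∨ m χ = 1 := by
    have : m χ ≠ 0 := fun e => hχ (by simp [e])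
    have h1 : -1 ≤ m χ := by nlinarith
    have h2 : m χ ≤ 1 := by nlinarith
    omega
  have hθχ := hmi χ
  have hχθ : Cfsg.classInner (χ : G → ℂ) θ = (m χ : ℂ) := by
    rw [classInner_conj_symm, hθχ, map_intCast]
  have hself := classInner_isIrr_self χ.2
  refine ⟨(m χ : ℂ) • (χ : G → ℂ), θ - (m χ : ℂ) • (χ : G → ℂ),
    ⟨isGen_zsmul (isGen_of_isIrr χ.2) _, ?_⟩,
    ⟨isGen_sub h (isGen_zsmul (isGen_of_isIrr χ.2) _), ?_⟩, ?_, (add_sub_cancel _ _).symm⟩
  all_goals
    simp only [classInner_sub_left, classInner_sub_right, classInner_smul_left,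
      classInner_smul_right, hθχ, hχθ, hself, h2, map_intCast]
    rcases hm with e | e <;> rw [e] <;> norm_num

/-- An orthonormal family of generalized characters. -/
def IsOrtho {n : ℕ} (L : Fin n → G → ℂ) : Prop :=
  (∀ i, Cfsg.IsGeneralizedCharacter G (L i)) ∧
    ∀ i j, Cfsg.classInner (L i) (L j) = if i = j then 1 else 0

theorem IsOrtho.unit {n : ℕ} {L : Fin n → G → ℂ} (h : IsOrtho L) (i : Fin n) :
    IsUnitChar (L i) := ⟨h.1 i, by rw [h.2, if_pos rfl]⟩

theorem isOrtho_zero : IsOrtho (Fin.elim0 : Fin 0 → G → ℂ) :=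
  ⟨fun i => i.elim0, fun i => i.elim0⟩

theorem IsOrtho.snoc {n : ℕ} {L : Fin n → G → ℂ} (h : IsOrtho L) {Z : G → ℂ} (hZ : IsUnitChar Z)
    (hp : ∀ i, Cfsg.classInner Z (L i) = 0) : IsOrtho (Fin.snoc L Z : Fin (n + 1) → G → ℂ) := by
  refine ⟨fun i => ?_, fun i j => ?_⟩
  · refine Fin.lastCases ?_ (fun k => ?_) i
    · simpa using hZ.1
    · simpa using h.1 k
  · refine Fin.lastCases ?_ (fun k => ?_) i <;> refine Fin.lastCases ?_ (fun l => ?_) j
    · simpa using hZ.2
    · simp [hp, Fin.ext_iff, l.isLt.ne']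
    · simp [inner_zero_symm (hp k), Fin.ext_iff, k.isLt.ne]
    · simp [h.2, Fin.ext_iff]

theorem IsOrtho.residue {n : ℕ} {L : Fin n → G → ℂ} (h : IsOrtho L) {θ : G → ℂ}
    (hθ : Cfsg.IsGeneralizedCharacter G θ) (c : Fin n → ℤ)
    (hc : ∀ i, Cfsg.classInner θ (L i) = (c i : ℂ)) {N : ℤ}
    (hN : Cfsg.classInner θ θ = (N : ℂ)) :
    0 ≤ N - ∑ i, c i ^ 2 ∧ ∃ r : G → ℂ, Cfsg.IsGeneralizedCharacter G r ∧
      Cfsg.classInner r r = ((N - ∑ i, c i ^ 2 : ℤ) : ℂ) ∧
      (∀ i, Cfsg.classInner r (L i) = 0) ∧ θ = (∑ i, (c i : ℂ) • L i) + r ∧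
      (N - ∑ i, c i ^ 2 = 0 → r = 0) := by
  set r := θ - ∑ i, (c i : ℂ) • L i with hr
  have hgen : Cfsg.IsGeneralizedCharacter G r :=
    isGen_sub hθ (isGen_sum _ _ fun i _ => isGen_zsmul (h.1 i) _)
  have hperp : ∀ i, Cfsg.classInner r (L i) = 0 := fun i => by
    rw [hr, classInner_sub_left, classInner_sum_left, hc]
    simp [classInner_smul_left, h.2]
  have hnorm : Cfsg.classInner r r = ((N - ∑ i, c i ^ 2 : ℤ) : ℂ) := by
    conv_lhs => arg 2; rw [hr]
    rw [classInner_sub_right, classInner_sum_right]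
    simp only [classInner_smul_right, hperp, mul_zero, Finset.sum_const_zero, sub_zero]
    rw [hr, classInner_sub_left, classInner_sum_left, hN]
    simp only [classInner_smul_left]
    push_cast
    congr 1
    refine Finset.sum_congr rfl fun i _ => ?_
    rw [classInner_conj_symm θ (L i), hc, map_intCast, sq]
  exact ⟨(gen_norm_nonneg hgen hnorm).1, r, hgen, hnorm, hperp, by rw [hr, add_sub_cancel],
    (gen_norm_nonneg hgen hnorm).2⟩

theorem isUnitChar_conj {Z : G → ℂ} (h : IsUnitChar Z) : IsUnitChar (fun g => conj (Z g)) :=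
  ⟨isGen_conj h.1, by rw [classInner_conj_conj, h.2, map_one]⟩

/-- The first step: the two conjugate characters. -/
theorem decompose_two (E E' : G → ℂ) (hE : Cfsg.IsGeneralizedCharacter G E)
    (hconj : (fun g => conj (E g)) = E') (hEE : Cfsg.classInner E E = 3)
    (hEE' : Cfsg.classInner E' E = 2) (hE1 : Cfsg.classInner E (fun _ => 1) = 1) :
    ∃ P U U' : G → ℂ, IsOrtho ![fun _ => 1, P, U, U'] ∧ U' = (fun g => conj (U g)) ∧
      E = (fun _ => 1) + P + U ∧ E' = (fun _ => 1) + P + U' := by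
  set one : G → ℂ := fun _ => 1 with hone
  have h11 : Cfsg.classInner one one = 1 := isUnitChar_one.2
  have h1E : Cfsg.classInner one E = 1 := by rw [classInner_conj_symm, hE1, map_one]
  obtain ⟨X, Y, hX, hY, hXY, hsum⟩ := split_two (θ := E - one) (isGen_sub hE isGen_one) (by
    rw [classInner_sub_left, classInner_sub_right, classInner_sub_right, hEE, hE1, h1E, h11]
    norm_num)
  have hY1 : Cfsg.classInner X one = 0 ∧ Cfsg.classInner Y one = 0 :=
    perp_of_sum hX hY isUnitChar_one hXY (by rw [← hsum, classInner_sub_left, hE1, h11, sub_self])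
  have hEeq : E = one + X + Y := by rw [add_assoc, ← hsum, add_sub_cancel]
  have hE' : E' = one + (fun g => conj (X g)) + (fun g => conj (Y g)) := by
    rw [← hconj, hEeq]; funext g; simp [hone]
  clear hsum
  have hYX : Cfsg.classInner Y X = 0 := by rw [classInner_conj_symm, hXY, map_zero]
  have hswap : Cfsg.classInner (fun g => conj (Y g)) X =
      Cfsg.classInner (fun g => conj (X g)) Y := by
    have h := classInner_conj_conj Y (fun g => conj (X g))
    simp only [Complex.conj_conj] at h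
    rw [h, ← classInner_conj_symm]
  set X' : G → ℂ := fun g => conj (X g) with hX'
  set Y' : G → ℂ := fun g => conj (Y g) with hY'
  have hcx : ∀ Z : G → ℂ, Cfsg.classInner Z one = 0 →
      Cfsg.classInner (fun g => conj (Z g)) one = 0 := fun Z hZ => by
    have h := classInner_conj_conj Z one
    simp only [hone, map_one] at h ⊢
    rw [h, hZ, map_zero]
  have hsum : Cfsg.classInner X' X + Cfsg.classInner Y' Y + 2 * Cfsg.classInner X' Y = 1 := by
    rw [hE', hEeq] at hEE'
    simp only [classInner_add_left, classInner_add_right, h11, hY1, hcx X hY1.1, hcx Y hY1.2,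
      inner_zero_symm hY1.1, inner_zero_symm hY1.2, hswap] at hEE'
    simp only [hX', hY', hcx X hY1.1, hcx Y hY1.2] at hEE' ⊢
    linear_combination hEE'
  have hXu : IsUnitChar X' := isUnitChar_conj hX
  have hYu : IsUnitChar Y' := isUnitChar_conj hY
  have hc0 : Cfsg.classInner X' Y = 0 := by
    rcases unit_inner hXu hY with h | ⟨h, h'⟩ | ⟨h, h'⟩
    · exact h
    · exfalso
      have h2 : Y' = X := by funext g; rw [hY', ← h, hX']; simp
      rw [h', h, hYX, h2, hXY] at hsum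
      norm_num at hsum
    · exfalso
      have hY2 : Y = -X' := by rw [h, neg_neg]
      have h2 : Y' = -X := by funext g; rw [hY', hY2, hX']; simp
      rw [h', h, neg_left, hYX, h2, neg_left, hXY] at hsum
      norm_num at hsum
  rw [hc0, mul_zero, add_zero] at hsum
  have hswap0 : Cfsg.classInner Y' X = 0 := hswap.trans hc0
  have hortho : ∀ P U U' : G → ℂ, IsUnitChar P → IsUnitChar U → IsUnitChar U' →
      Cfsg.classInner P one = 0 → Cfsg.classInner U one = 0 → Cfsg.classInner U' one = 0 →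
      Cfsg.classInner P U = 0 → Cfsg.classInner U' P = 0 → Cfsg.classInner U' U = 0 →
      IsOrtho ![one, P, U, U'] := by
    intro P U U' hP hU hU' p1 u1 u1' pu up uu
    refine ⟨fun i => ?_, fun i j => ?_⟩
    · fin_cases i
      exacts [isGen_one, hP.1, hU.1, hU'.1]
    · fin_cases i <;> fin_cases j <;> simp only [Fin.reduceEq, if_false, if_true]
      · exact h11
      · show Cfsg.classInner one P = 0; rw [classInner_conj_symm, p1, map_zero]
      · show Cfsg.classInner one U = 0; rw [classInner_conj_symm, u1, map_zero]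
      · show Cfsg.classInner one U' = 0; rw [classInner_conj_symm, u1', map_zero]
      · exact p1
      · exact hP.2
      · exact pu
      · show Cfsg.classInner P U' = 0; rw [classInner_conj_symm, up, map_zero]
      · exact u1
      · show Cfsg.classInner U P = 0; rw [classInner_conj_symm, pu, map_zero]
      · exact hU.2
      · show Cfsg.classInner U U' = 0; rw [classInner_conj_symm, uu, map_zero]
      · exact u1'
      · exact up
      · exact uu
      · exact hU'.2
  rcases unit_inner hXu hX with a | ⟨a, a'⟩ | ⟨a, a'⟩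
  · rw [a, zero_add] at hsum
    have b := eq_of_inner_eq_one hYu hY hsum
    exact ⟨Y, X, X', hortho Y X X' hY hX hXu hY1.2 hY1.1 (hcx X hY1.1) hYX hc0 a,
      rfl, by rw [hEeq]; abel, by rw [hE', b]; abel⟩
  · rw [a'] at hsum
    have b : Cfsg.classInner Y' Y = 0 := by linear_combination hsum
    exact ⟨X, Y, Y', hortho X Y Y' hX hY hYu hY1.1 hY1.2 (hcx Y hY1.2) hXY hswap0 b,
      rfl, hEeq, by rw [hE', a]⟩
  · exfalso
    rw [a'] at hsum
    rcases unit_inner hYu hY with b | ⟨-, b⟩ | ⟨-, b⟩ <;> rw [b] at hsum <;> norm_num at hsum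

/-- Degree of a generalized character at the identity. -/
theorem exists_deg {θ : G → ℂ} (h : Cfsg.IsGeneralizedCharacter G θ) : ∃ z : ℤ, θ 1 = z :=
  gen_one_isInt h

/-- The decomposition. -/
theorem decompose (X : Fin 5 → G → ℂ) (hgen : ∀ i, Cfsg.IsGeneralizedCharacter G (X i))
    (hone : ∀ i, X i 1 = 0) (hconj : (fun g => conj (X 2 g)) = X 3)
    (hgram : ∀ i j, Cfsg.classInner (X i) (X j) =
      ((![![3, 1, 2, 2, 1], ![1, 3, 0, 0, -1], ![2, 0, 3, 2, 1],
        ![2, 0, 2, 3, 1], ![1, -1, 1, 1, 3]] i j : ℤ) : ℂ))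
    (htriv : ∀ i, Cfsg.classInner (X i) (fun _ => 1) = ((![1, 0, 1, 1, 0] i : ℤ) : ℂ)) :
    ∃ L : Fin 8 → G → ℂ, IsOrtho L ∧ L 0 = (fun _ => 1) ∧
      X 0 = L 0 + L 1 + L 4 ∧ X 1 = L 4 + L 5 + L 6 ∧ X 2 = L 0 + L 1 + L 2 ∧
      X 3 = L 0 + L 1 + L 3 ∧ X 4 = L 1 - L 5 + L 7 := by
  obtain ⟨P, U, U', hL4, hU', h2, h3⟩ := decompose_two (X 2) (X 3) (hgen 2) hconj
    (by simpa using hgram 2 2) (by simpa using hgram 3 2) (by simpa using htriv 2)
  obtain ⟨dp, hdp⟩ := exists_deg (show Cfsg.IsGeneralizedCharacter G P from hL4.1 1)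
  obtain ⟨du, hdu⟩ := exists_deg (show Cfsg.IsGeneralizedCharacter G U from hL4.1 2)
  have hdu' : U' 1 = (du : ℂ) := by simp [hU', hdu]
  have hdeg : 1 + dp + du = 0 := by
    have := hone 2
    rw [h2] at this
    simp [hdp, hdu] at this
    exact_mod_cast this
  -- the first character
  have coef : ∀ i, ∃ a b : ℤ, Cfsg.classInner (X i) P = a ∧ Cfsg.classInner (X i) U = b ∧
      (![1, 0, 1, 1, 0] i : ℤ) + a + b = ![![3, 1, 2, 2, 1], ![1, 3, 0, 0, -1], ![2, 0, 3, 2, 1],
        ![2, 0, 2, 3, 1], ![1, -1, 1, 1, 3]] i 2 ∧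
      ∃ b' : ℤ, Cfsg.classInner (X i) U' = b' ∧
        (![1, 0, 1, 1, 0] i : ℤ) + a + b' = ![![3, 1, 2, 2, 1], ![1, 3, 0, 0, -1],
          ![2, 0, 3, 2, 1], ![2, 0, 2, 3, 1], ![1, -1, 1, 1, 3]] i 3 := by
    intro i
    obtain ⟨a, ha⟩ := classInner_gen (hgen i) (show Cfsg.IsGeneralizedCharacter G P from hL4.1 1)
    obtain ⟨b, hb⟩ := classInner_gen (hgen i) (show Cfsg.IsGeneralizedCharacter G U from hL4.1 2)
    obtain ⟨b', hb'⟩ := classInner_gen (hgen i)
      (show Cfsg.IsGeneralizedCharacter G U' from hL4.1 3)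
    have e2 := hgram i 2
    have e3 := hgram i 3
    rw [h2, classInner_add_right, classInner_add_right, htriv, ha, hb] at e2
    rw [h3, classInner_add_right, classInner_add_right, htriv, ha, hb'] at e3
    refine ⟨a, b, ha, hb, ?_, b', hb', ?_⟩
    · rw [← Int.cast_add, ← Int.cast_add, Int.cast_inj] at e2
      exact e2
    · rw [← Int.cast_add, ← Int.cast_add, Int.cast_inj] at e3
      exact e3
  obtain ⟨a, b, ha, hb, hab, b', hb', hab'⟩ := coef 0
  simp at hab hab'
  obtain ⟨hnn, r, hr, hrr, hrp, hX0, hr0⟩ := hL4.residue (hgen 0) ![1, a, b, b']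
    (fun i => by
      fin_cases i
      · simpa using htriv 0
      · simpa using ha
      · simpa using hb
      · simpa using hb') (N := 3) (by simpa using hgram 0 0)
  simp only [Fin.sum_univ_four, Nat.reduceAdd, Matrix.cons_val_zero, Matrix.cons_val_one, Matrix.cons_val]
    at hnn hrr hX0 hr0
  have hcase : (a = 1 ∧ b = 0 ∧ b' = 0) ∨ (a = 0 ∧ b = 1 ∧ b' = 1) := by
    have h1 : -1 ≤ b := by nlinarith
    have h2 : b ≤ 1 := by nlinarith
    obtain rfl : b' = b := by omega
    obtain rfl : a = 1 - b' := by omega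
    interval_cases b' <;> simp at hnn ⊢
  rcases hcase with ⟨rfl, rfl, rfl⟩ | ⟨rfl, rfl, rfl⟩
  swap
  · exfalso
    rw [hr0 (by norm_num), add_zero] at hX0
    have := hone 0
    rw [hX0] at this
    simp [hdu, hdu'] at this
    have h : 1 + du + du = 0 := by exact_mod_cast this
    omega
  have hR : IsUnitChar r := ⟨hr, by rw [hrr]; norm_num⟩
  have hX0' : X 0 = (fun _ => 1) + P + r := by rw [hX0]; simp
  have hL5 : IsOrtho (Fin.snoc ![fun _ => 1, P, U, U'] r : Fin 5 → G → ℂ) := hL4.snoc hR hrp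
  -- the second character
  obtain ⟨a, b, ha, hb, hab, b', hb', hab'⟩ := coef 1
  simp at hab hab'
  obtain ⟨c, hc⟩ := classInner_gen (hgen 1) hr
  have hac : a + c = 1 := by
    have e := hgram 1 0
    rw [hX0', classInner_add_right, classInner_add_right, htriv, ha, hc] at e
    simp at e
    exact_mod_cast e
  obtain ⟨hnn, r₂, hr₂, hrr₂, hrp₂, hX1, hr₂0⟩ := hL5.residue (hgen 1) ![0, a, b, b', c]
    (fun i => by
      fin_cases i
      · simpa using htriv 1
      · simpa using ha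
      · simpa using hb
      · simpa using hb'
      · simpa [Fin.snoc] using hc) (N := 3) (by simpa using hgram 1 1)
  simp [Fin.sum_univ_succ, Fin.snoc] at hnn hrr₂ hX1 hr₂0
  have hcase : (a = 0 ∧ b = 0 ∧ b' = 0 ∧ c = 1) ∨ (a = 1 ∧ b = -1 ∧ b' = -1 ∧ c = 0) := by
    have h1 : -1 ≤ a := by nlinarith
    have h2 : a ≤ 1 := by nlinarith
    obtain rfl : b = -a := by omega
    obtain rfl : b' = -a := by omega
    obtain rfl : c = 1 - a := by omega
    interval_cases a <;> simp at hnn ⊢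
  rcases hcase with ⟨rfl, rfl, rfl, rfl⟩ | ⟨rfl, rfl, rfl, rfl⟩
  swap
  · exfalso
    rw [hr₂0 (by norm_num), add_zero] at hX1
    have := hone 1
    rw [hX1] at this
    simp [Fin.snoc, Fin.castPred, Fin.castLT, hdp, hdu, hdu'] at this
    have h : dp - du - du = 0 := by exact_mod_cast (by linear_combination this :
      (dp : ℂ) - du - du = 0)
    omega
  obtain ⟨S, T, hS, hT, hST, hsum⟩ := split_two hr₂ (by rw [hrr₂]; norm_num)
  have hperp : ∀ i, Cfsg.classInner S ((Fin.snoc ![fun _ => 1, P, U, U'] r : Fin 5 → G → ℂ) i) = 0 ∧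
      Cfsg.classInner T ((Fin.snoc ![fun _ => 1, P, U, U'] r : Fin 5 → G → ℂ) i) = 0 := fun i =>
    perp_of_sum hS hT (hL5.unit i) hST (hsum ▸ hrp₂ i)
  have hTS : Cfsg.classInner T S = 0 := by rw [classInner_conj_symm, hST, map_zero]
  have hX1' : X 1 = r + S + T := by rw [hX1, hsum]; simp [Fin.snoc]; abel
  clear hX1 hr₂0 hrp₂ hrr₂ hsum hr₂
  -- the last character
  obtain ⟨a, b, ha, hb, hab, b', hb', hab'⟩ := coef 4
  simp at hab hab'
  obtain ⟨c, hc⟩ := classInner_gen (hgen 4) hr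
  obtain ⟨d, hd⟩ := classInner_gen (hgen 4) hS.1
  obtain ⟨f, hf⟩ := classInner_gen (hgen 4) hT.1
  have hac : a + c = 1 := by
    have e := hgram 4 0
    rw [hX0', classInner_add_right, classInner_add_right, htriv, ha, hc] at e
    simp at e
    exact_mod_cast e
  have hcdf : c + d + f = -1 := by
    have e := hgram 4 1
    rw [hX1', classInner_add_right, classInner_add_right, hc, hd, hf] at e
    simp at e
    exact_mod_cast e
  have fin : ∀ S T : G → ℂ, IsUnitChar S → IsUnitChar T →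
      (∀ i, Cfsg.classInner S ((Fin.snoc ![fun _ => 1, P, U, U'] r : Fin 5 → G → ℂ) i) = 0) →
      (∀ i, Cfsg.classInner T ((Fin.snoc ![fun _ => 1, P, U, U'] r : Fin 5 → G → ℂ) i) = 0) →
      Cfsg.classInner T S = 0 → X 1 = r + S + T → Cfsg.classInner (X 4) S = -1 →
      Cfsg.classInner (X 4) T = 0 → a = 1 ∧ b = 0 ∧ b' = 0 ∧ c = 0 →
      ∃ L : Fin 8 → G → ℂ, IsOrtho L ∧ L 0 = (fun _ => 1) ∧
        X 0 = L 0 + L 1 + L 4 ∧ X 1 = L 4 + L 5 + L 6 ∧ X 2 = L 0 + L 1 + L 2 ∧
        X 3 = L 0 + L 1 + L 3 ∧ X 4 = L 1 - L 5 + L 7 := by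
    intro S T hS hT pS pT hTS hX1 hd hf ⟨ea, eb, eb', ec⟩
    have hL6 : IsOrtho (Fin.snoc (Fin.snoc ![fun _ => 1, P, U, U'] r : Fin 5 → G → ℂ) S :
        Fin 6 → G → ℂ) := hL5.snoc hS pS
    have hL7 : IsOrtho (Fin.snoc (Fin.snoc (Fin.snoc ![fun _ => 1, P, U, U'] r : Fin 5 → G → ℂ) S :
        Fin 6 → G → ℂ) T : Fin 7 → G → ℂ) := hL6.snoc hT (fun i => by
      refine Fin.lastCases ?_ (fun k => ?_) i
      · simpa using hTS
      · simpa using pT k)
    obtain ⟨-, W, hW, hWW, hWp, hX4, -⟩ := hL7.residue (hgen 4) ![0, a, b, b', c, -1, 0]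
      (fun i => by
        fin_cases i
        · exact htriv 4
        · exact ha
        · exact hb
        · exact hb'
        · exact hc
        · exact hd.trans (by simp)
        · simpa [Fin.snoc] using hf) (N := 3) (by simpa using hgram 4 4)
    subst ea eb eb' ec
    simp [Fin.sum_univ_succ, Fin.snoc] at hWW hX4
    refine ⟨_, hL7.snoc ⟨hW, by rw [hWW]⟩ hWp, rfl, ?_, ?_, ?_, ?_, ?_⟩
    · rw [hX0']; rfl
    · rw [hX1]; rfl
    · rw [h2]; rfl
    · rw [h3]; rfl
    · rw [hX4]; simp [Fin.snoc]; abel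
  have hcase : a = 1 ∧ b = 0 ∧ b' = 0 ∧ c = 0 ∧ ((d = -1 ∧ f = 0) ∨ (d = 0 ∧ f = -1)) := by
    have hL6 : IsOrtho (Fin.snoc (Fin.snoc ![fun _ => 1, P, U, U'] r : Fin 5 → G → ℂ) S :
        Fin 6 → G → ℂ) := hL5.snoc hS fun i => (hperp i).1
    have hL7 : IsOrtho (Fin.snoc (Fin.snoc (Fin.snoc ![fun _ => 1, P, U, U'] r : Fin 5 → G → ℂ) S :
        Fin 6 → G → ℂ) T : Fin 7 → G → ℂ) := hL6.snoc hT (fun i => by
      refine Fin.lastCases ?_ (fun k => ?_) i
      · simpa using hTS
      · simpa using (hperp k).2)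
    obtain ⟨hnn, -⟩ := hL7.residue (hgen 4) ![0, a, b, b', c, d, f]
      (fun i => by
        fin_cases i
        · exact htriv 4
        · exact ha
        · exact hb
        · exact hb'
        · exact hc
        · exact hd.trans (by simp)
        · simpa [Fin.snoc] using hf) (N := 3) (by simpa using hgram 4 4)
    simp [Fin.sum_univ_succ] at hnn
    have h1 : -1 ≤ d := by nlinarith
    have h2 : d ≤ 1 := by nlinarith
    have h3 : -1 ≤ a := by nlinarith
    have h4 : a ≤ 1 := by nlinarith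
    obtain rfl : b = 1 - a := by omega
    obtain rfl : b' = 1 - a := by omega
    obtain rfl : c = 1 - a := by omega
    obtain rfl : f = a - 2 - d := by omega
    interval_cases a <;> interval_cases d <;> simp at hnn ⊢
  obtain ⟨e1, e2, e3, e4, ⟨rfl, rfl⟩ | ⟨rfl, rfl⟩⟩ := hcase
  · exact fin S T hS hT (fun i => (hperp i).1) (fun i => (hperp i).2) hTS hX1'
      (by simpa using hd) (by simpa using hf) ⟨e1, e2, e3, e4⟩
  · exact fin T S hT hS (fun i => (hperp i).2) (fun i => (hperp i).1) hST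
      (by rw [hX1']; abel) (by simpa using hf) (by simpa using hd) ⟨e1, e2, e3, e4⟩

end CfsgLib.Characters.GL23
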