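import Cfsg.Agent.Characters.GL23.Arith
import Cfsg.Agent.Characters.GL23.Basis
import Cfsg.Agent.Characters.GL23.Count
import Cfsg.Agent.Characters.GL23.Decompose

/-!
# Simple groups with an involution centralizer isomorphic to `GL(2, 3)`
-/

set_option autoImplicit false
set_option linter.style.haveILetI false
set_option linter.unusedSectionVars false

namespace CfsgLib.Characters.GL23

open scoped ComplexConjugate
open Matrix

universe u

variable {G : Type u} [Group G] [Fintype G] {t : G}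
  (e : Subgroup.centralizer ({t} : Set G) ≃* GeneralLinearGroup (Fin 2) (ZMod 3))

/-- The values at the first four class representatives, from the five multiplicities. -/
theorem values_of_coeff (ht : orderOf t = 2) {χ : G → ℂ} (hχ : Cfsg.IsClassFunction G χ)
    (r : Fin 5 → Subgroup.centralizer ({t} : Set G)) (hr : ∀ j, coord e (r j) = classRep j)
    (c : Fin 5 → ℤ) (hc : ∀ i, Cfsg.classInner (X e i) χ = (c i : ℂ)) :
    χ (r 0) = 5 * c 0 - 3 * c 1 - 2 * c 2 - 2 * c 3 - 4 * c 4 ∧ χ (r 1) = c 0 + c 1 ∧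
      χ (r 2) = c 2 + c 3 - c 4 - c 0 ∧
      χ (r 3) = c 0 - c 1 + sqrtNegTwo * (c 2 - c 3) := by
  have h : ∀ i, 48 * (c i : ℂ) = ∑ j : Fin 5,
      emb (![1, 6, 8, 6, 6] j * base i (classRep j)) * conj (χ (r j)) := fun i => by
    rw [← hc i]; exact classInner_X e ht i hχ r hr
  have hA := h 0
  have hA' := h 1
  have hE := h 2
  have hE' := h 3
  have hF := h 4
  simp [Fin.sum_univ_five, base_classRep, map_mul, emb_mk, map_ofNat] at hA hA' hE hE' hF
  have hs : sqrtNegTwo * sqrtNegTwo + 2 = 0 := by rw [sqrtNegTwo_sq]; norm_num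
  have y0 : conj (χ (r 0)) = 5 * (c 0 : ℂ) - 3 * c 1 - 2 * c 2 - 2 * c 3 - 4 * c 4 := by
    linear_combination (-5 * hA + 3 * hA' + 2 * hE + 2 * hE' + 4 * hF) / 48
  have y1 : conj (χ (r 1)) = (c 0 : ℂ) + c 1 := by linear_combination -(hA + hA') / 48
  have y2 : conj (χ (r 2)) = (c 2 : ℂ) + c 3 - c 4 - c 0 := by
    linear_combination (-hE - hE' + hF + hA) / 48
  have y3 : conj (χ (r 3)) = (c 0 : ℂ) - c 1 - sqrtNegTwo * (c 2 - c 3) := by
    linear_combination (-hA + hA') / 48 + sqrtNegTwo / 48 * (hE - hE') +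
      (conj (χ (r 3)) - conj (χ (r 4))) / 4 * hs
  have hcs : conj sqrtNegTwo = -sqrtNegTwo := by simp [sqrtNegTwo]
  refine ⟨?_, ?_, ?_, ?_⟩
  all_goals apply (starRingEnd ℂ).injective
  · rw [y0]; simp [map_sub, map_mul, map_ofNat]
  · rw [y1]; simp
  · rw [y2]; simp
  · rw [y3]; simp [hcs]; ring

/-- The multiplicities of the eight constituents. -/
def mult : Fin 5 → Fin 8 → ℤ :=
  ![![1, 1, 0, 0, 1, 0, 0, 0], ![0, 0, 0, 0, 1, 1, 1, 0], ![1, 1, 1, 0, 0, 0, 0, 0],
    ![1, 1, 0, 1, 0, 0, 0, 0], ![0, 1, 0, 0, 0, -1, 0, 1]]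

include e in
theorem card_eq_5616_or_7920 [IsSimpleGroup G] (ht : orderOf t = 2) :
    Nat.card G = 5616 ∨ Nat.card G = 7920 := by
  classical
  obtain ⟨m, hm, hn⟩ := card_eq e ht
  choose r hr using fun j : Fin 5 => coord_surj e (classRep_mem j).1
  have hr0 : (r 0 : G) = t := by
    have : r 0 = tC := coord_injective e (by rw [hr, coord_tC e ht]; rfl)
    rw [this]; rfl
  obtain ⟨L, hL, hL0, e0, e1, e2, e3, e4⟩ := decompose (X e) (isGen_X e) (X_one e) (conj_X e)
    (fun i j => by rw [gram_X e ht]; fin_cases i <;> fin_cases j <;> simp [map_ofNat])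
    (fun i => by rw [classInner_X_one e]; fin_cases i <;> simp)
  have hmult : ∀ i k, Cfsg.classInner (X e i) (L k) = (mult i k : ℂ) := by
    intro i k
    fin_cases i <;> simp only [Fin.reduceFinMk, Fin.zero_eta, Fin.isValue, e0, e1, e2, e3, e4,
      classInner_add_left, classInner_sub_left, hL.2] <;> fin_cases k <;> simp [mult]
  choose χ ε hε hLχ using fun k => (hL.unit k).exists_irr
  have hinj : Function.Injective χ := by
    intro k l hkl
    by_contra hne
    have h := hL.2 k l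
    rw [if_neg hne, hLχ k, hLχ l, hkl, classInner_smul_left, classInner_smul_right,
      classInner_isIrr_self (χ l).2] at h
    rcases hε k with h1 | h1 <;> rcases hε l with h2 | h2 <;> rw [h1, h2] at h <;> norm_num at h
  have hL1 : ∀ k, ∃ d : ℤ, d ≠ 0 ∧ L k 1 = d := fun k => by
    obtain ⟨d, hd, hdχ⟩ := exists_degree_pos (χ k).2
    rcases hε k with h1 | h1
    · exact ⟨d, by omega, by rw [hLχ k, h1, one_smul, hdχ]; push_cast; rfl⟩
    · exact ⟨-d, by omega, by rw [hLχ k, h1, Pi.smul_apply, hdχ]; simp⟩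
  choose d hd0 hd using hL1
  have hd1 : d 0 = 1 := by
    have := hd 0
    rw [hL0] at this
    exact Int.cast_inj.1 ((this.symm : ((d 0 : ℤ) : ℂ) = 1).trans Int.cast_one.symm)
  -- values of the constituents
  have hLcl : ∀ k, Cfsg.IsClassFunction G (L k) := fun k => isClassFunction_of_isGen (hL.1 k)
  have hval := fun k => values_of_coeff e ht (hLcl k) r hr (fun i => mult i k) (fun i => hmult i k)
  have hzero : ∀ ψ : Cfsg.IrrCharacter G, ψ ∉ Finset.univ.image χ →
      ∀ j : Fin 4, (ψ : G → ℂ) (r (Fin.castSucc j)) = 0 := by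
    intro ψ hψ
    have hperp : ∀ k, Cfsg.classInner (L k) (ψ : G → ℂ) = 0 := fun k => by
      rw [hLχ k, classInner_smul_left, classInner_irr,
        if_neg fun h => hψ (Finset.mem_image.2 ⟨k, Finset.mem_univ k, h⟩), mul_zero]
    obtain ⟨v0, v1, v2, v3⟩ := values_of_coeff e ht (isClassFunction_of_isIrr ψ.2) r hr (fun _ => 0)
      (fun i => by
        fin_cases i <;> simp [e0, e1, e2, e3, e4, classInner_add_left, classInner_sub_left, hperp])
    intro j
    fin_cases j
    · simpa using v0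
    · simpa using v1
    · simpa using v2
    · simpa using v3
  -- the three equations
  have hall : ∀ y : G, orderOf y = 2 → IsConj t y := fun y hy => isConj_of_inv e ht hy
  have hsum : ∀ j : Fin 4, (2304 : ℂ) * ((![12, 4, 6, 0, 0] (Fin.castSucc j) : ℕ) : ℂ) =
      48 * (m : ℂ) * ∑ k, L k (r 0) * L k (r 0) * L k (r (Fin.castSucc j)) / (d k : ℂ) := by
    intro j
    have h1 := card_conj_mul_conj_eq ht hall (r (Fin.castSucc j) : G)
    rw [pairs_eq e ht (hr _), card_centralizer e] at h1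
    have h2 := card_conj_mul_conj (Small.inv_eq_self_of_orderOf_two ht) (r (Fin.castSucc j) : G)
    rw [h1, hn] at h2
    push_cast at h2
    norm_num at h2
    rw [h2]
    congr 1
    rw [← Finset.sum_subset (Finset.subset_univ (Finset.univ.image χ)) fun ψ _ hψ => by
      rw [hzero ψ hψ j, mul_zero, zero_div], Finset.sum_image fun a _ b _ h => hinj h]
    refine Finset.sum_congr rfl fun k _ => ?_
    rw [show (χ k : G → ℂ) t = (χ k : G → ℂ) (r 0) by rw [hr0]]
    rw [← hd k, hLχ k]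
    rcases hε k with h | h <;> rw [h] <;> simp
  have v0 : ∀ k, L k (r 0) = ((![1, -3, -2, -2, 2, 1, -3, -4] k : ℤ) : ℂ) := fun k => by
    rw [(hval k).1]; fin_cases k <;> simp [mult] <;> norm_num
  have v1 : ∀ k, L k (r 1) = ((![1, 1, 0, 0, 2, 1, 1, 0] k : ℤ) : ℂ) := fun k => by
    rw [(hval k).2.1]; fin_cases k <;> simp [mult] <;> norm_num
  have v2 : ∀ k, L k (r 2) = ((![1, 0, 1, 1, -1, 1, 0, -1] k : ℤ) : ℂ) := fun k => by
    rw [(hval k).2.2.1]; fin_cases k <;> simp [mult]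
  have v3 : ∀ k, L k (r 3) =
      ![1, 1, sqrtNegTwo, -sqrtNegTwo, 0, -1, -1, 0] k := fun k => by
    rw [(hval k).2.2.2]; fin_cases k <;> simp [mult]
  -- degrees
  have hdeg : ∀ i, X e i 1 = 0 := X_one e
  have d0 := hdeg 0
  have d1' := hdeg 1
  have d2' := hdeg 2
  have d3' := hdeg 3
  have d4' := hdeg 4
  rw [e0, Pi.add_apply, Pi.add_apply, hd, hd, hd, hd1] at d0
  rw [e1, Pi.add_apply, Pi.add_apply, hd, hd, hd] at d1'
  rw [e2, Pi.add_apply, Pi.add_apply, hd, hd, hd, hd1] at d2'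
  rw [e3, Pi.add_apply, Pi.add_apply, hd, hd, hd, hd1] at d3'
  rw [e4, Pi.add_apply, Pi.sub_apply, hd, hd, hd] at d4'
  have k0 : 1 + d 1 + d 4 = 0 := by exact_mod_cast d0
  have k1 : d 4 + d 5 + d 6 = 0 := by exact_mod_cast d1'
  have k2 : 1 + d 1 + d 2 = 0 := by exact_mod_cast d2'
  have k3 : 1 + d 1 + d 3 = 0 := by exact_mod_cast d3'
  have k4 : d 1 - d 5 + d 7 = 0 := by exact_mod_cast d4'
  have q1 : d 1 = -1 - d 4 := by omega
  have q2 : d 2 = d 4 := by omega
  have q3 : d 3 = d 4 := by omega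
  have q6 : d 6 = -d 4 - d 5 := by omega
  have q7 : d 7 = d 5 + 1 + d 4 := by omega
  have hm0 : (m : ℂ) ≠ 0 := Nat.cast_ne_zero.2 fun h => by simp [h] at hm
  have E4 := hsum 1
  have E6 := hsum 2
  have E8 := hsum 3
  simp only [Fin.sum_univ_eight, v0, Fin.castSucc_one, v1] at E4
  simp only [Fin.sum_univ_eight, v0, show Fin.castSucc (2 : Fin 4) = (2 : Fin 5) from rfl, v2] at E6
  simp only [Fin.sum_univ_eight, v0, show Fin.castSucc (3 : Fin 4) = (3 : Fin 5) from rfl, v3] at E8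
  simp [hd1, q1, q2, q3, q6, q7] at E4 E6 E8
  have h8' : 1 + 9 / ((-1 - d 4 : ℤ) : ℂ) - 1 / (d 5 : ℂ) - 9 / ((-d 4 - d 5 : ℤ) : ℂ) = 0 := by
    rcases E8 with h | h
    · exact absurd h (by simpa using hm0)
    · push_cast; linear_combination h
  rw [hn]
  refine order_cases hm (hd0 4) (q1 ▸ hd0 1) (hd0 5) (q6 ▸ hd0 6) ?_ ?_ h8'
  · push_cast
    linear_combination -E4 / 48
  · push_cast
    linear_combination -E6 / 48

end CfsgLib.Characters.GL23
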